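import Groth.Agent.UniRad.Main
import Groth.Agent.Chev.BorelCent

/-!
# Centralizers of tori in reductive groups over an algebraically closed field
-/

set_option autoImplicit false
set_option backward.isDefEq.respectTransparency false
set_option linter.style.haveILetI false
set_option linter.unusedSectionVars false
set_option maxHeartbeats 1000000
set_option synthInstance.maxHeartbeats 200000

universe u

open CategoryTheory CategoryTheory.Limits MonoidalCategory CartesianMonoidalCategory MonObj GrpObj AlgebraicGeometry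

noncomputable section

namespace Groth.Agent.RedCent

open Chev Chev.BorelFixed Chev.Borel

variable {k : Type u} [Field k] [IsAlgClosed k]

/-- The trivial subgroup has no subtori. -/
theorem hasNoSubtorus_unit : Red.HasNoSubtorus k (𝟙_ (Over (Spec (CommRingCat.of k)))) := by
  intro T _ j _ _ _
  haveI : IsSplitEpi j := ⟨⟨η[T], toUnit_unique _ _⟩⟩
  haveI : IsIso j := isIso_of_mono_of_isSplitEpi j
  haveI : IsIso j.left := inferInstanceAs (IsIso ((Over.forget _).map j))
  show IsIso T.hom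
  rw [← Over.w j]
  haveI : IsIso (𝟙_ (Over (Spec (CommRingCat.of k)))).hom := inferInstanceAs (IsIso (𝟙 _))
  infer_instance

/-- The trivial subgroup of a reductive group is its unipotent radical. -/
theorem isUnipotentRadical_unit {G : Over (Spec (CommRingCat.of k))} [GrpObj G] [IsAffine G.left]
    (hG : Red.IsReductiveOver k G) : Par.IsUnipotentRadical (η[G] : 𝟙_ _ ⟶ G) := by
  haveI : IsAffineHom G.hom := isAffineHom_of_isAffine G.hom
  haveI : IsIso (𝟙_ (Over (Spec (CommRingCat.of k)))).hom := inferInstanceAs (IsIso (𝟙 _))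
  haveI : IsMonHom (η[G] : 𝟙_ _ ⟶ G) := inferInstance
  have hconn : ConnectedSpace ↥(𝟙_ (Over (Spec (CommRingCat.of k)))).left :=
    inferInstanceAs (ConnectedSpace (PrimeSpectrum k))
  refine ⟨inferInstance, ?_, ?_, inferInstance, inferInstance,
    fun s => (UniRad.geomFibre_unipotent_iff _ s).2 ⟨hconn, hasNoSubtorus_unit⟩, ?_⟩
  · haveI : IsClosedImmersion ((η[G] : 𝟙_ _ ⟶ G).left ≫ G.hom) := by
      rw [Over.w (η[G] : 𝟙_ _ ⟶ G)]
      infer_instance
    exact IsClosedImmersion.of_comp (η[G] : 𝟙_ _ ⟶ G).left G.hom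
  · intro X g n
    refine ⟨n, ?_⟩
    rw [toUnit_unique n (toUnit X), ← Hom.one_def, _root_.mul_one, mul_inv_cancel]
  · intro U' _ u' _ hu'c hu'n hu's _ hu'f
    obtain ⟨hc, hnos⟩ := (UniRad.geomFibre_unipotent_iff U' (IsLocalRing.closedPoint k)).1 (hu'f _)
    haveI : IsIso U'.hom := hG.2.2.2 U' u' hu'c hu's hc hu'n hnos
    have hid : toUnit U' ≫ η[U'] = 𝟙 U' := by
      refine Over.OverMorphism.ext ((cancel_mono U'.hom).1 ?_)
      rw [Over.w (toUnit U' ≫ η[U']), Over.w (𝟙 U')]
    exact ⟨toUnit U', by rw [← IsMonHom.one_hom u', ← Category.assoc, hid, Category.id_comp]⟩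

/-- Groups without subtori are solvable. -/
theorem isSolvable_of_noSubtorus {U : Over (Spec (CommRingCat.of k))} [GrpObj U] [IsAffine U.left] [Smooth U.hom]
    [ConnectedSpace U.left] (hU : Red.HasNoSubtorus k U) : Group.IsSolvable (RP U) := by
  obtain ⟨T, B, _, _, t, b, -, -, -, hT, -⟩ := exists_maxTorus U
  haveI := hT.1; haveI := hT.2.1
  haveI : IsIso T.hom := hU T (t ≫ b) hT.2.2.1
  have hsub : ∀ p : RP T, p = 1 := fun p => Over.OverMorphism.ext ((cancel_mono T.hom).1 (by rw [Over.w, Over.w]))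
  obtain ⟨B', _, iB, hB', hiso⟩ := exists_borel_iso_of_central (t ≫ b) hT fun p g => by
    rw [hsub p, MonObj.one_comp, _root_.mul_one, _root_.one_mul]
  haveI := hB'.1; haveI := hiso
  haveI : Group.IsSolvable (RP B') := isSolvable_rp hB'.2.2.2.2.1
  exact Group.isSolvable_of_surjective (f := rpHom iB) fun g =>
    ⟨g ≫ inv iB, show (g ≫ inv iB) ≫ iB = g by rw [Category.assoc, IsIso.inv_hom_id, Category.comp_id]⟩

variable {G : Over (Spec (CommRingCat.of k))} [GrpObj G] [IsAffine G.left] [Smooth G.hom] [ConnectedSpace G.left]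

/-- Normal connected solvable subgroups lie in every Borel subgroup. -/
theorem exists_le_borel_of_normal {B H : Over (Spec (CommRingCat.of k))} [GrpObj B] [GrpObj H] (iB : B ⟶ G)
    (hB : Red.IsBorelOver k iB) (iH : H ⟶ G) [IsMonHom iH] [IsAffine H.left] [Smooth H.hom] [ConnectedSpace H.left]
    [Group.IsSolvable (RP H)] (hn : AlgGrp.IsNormalHom iH) : ∃ f : H ⟶ B, f ≫ iB = iH := by
  obtain ⟨g, f, hf⟩ := exists_conj_into_borel iB hB iH
  obtain ⟨n, hn'⟩ := hn H (toUnit H ≫ g⁻¹) (𝟙 H)
  refine ⟨n ≫ f, ?_⟩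
  rw [Category.assoc, hf, comp_conjBy, ← hn', Category.id_comp, GrpObj.comp_inv]
  group

/-- A torus lies in a maximal torus. -/
theorem exists_maxTorus_containing {S : Over (Spec (CommRingCat.of k))} [GrpObj S] (iS : S ⟶ G) [IsMonHom iS] [Mono iS]
    (hS : Red.IsTorus S) :
    ∃ (T : Over (Spec (CommRingCat.of k))) (_ : GrpObj T) (iT : T ⟶ G) (f : S ⟶ T),
      AGF.IsMaxTorus iT ∧ f ≫ iT = iS := by
  obtain ⟨T, B, hT, hB, t, b, htm, htc, hb, htor, huniv⟩ := exists_universal_torus G
  haveI := htm; haveI := htc; haveI := hb.1; haveI := hb.2.1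
  haveI : Mono t := GrpField.SchImg.mono_of_isClosedImmersion t
  haveI : Mono b := GrpField.SchImg.mono_of_isClosedImmersion b
  obtain ⟨g, f, -, hf⟩ := huniv S iS hS
  exact ⟨T, hT, AGF.conjBy g⁻¹ (t ≫ b), f, isMaxTorus_conjBy g⁻¹ (t ≫ b) (isMaxTorus_of_universal (t ≫ b) htor huniv),
    by rw [comp_conjBy', hf, conjBy_conjBy, inv_mul_cancel, conjBy_one]⟩

/-- The centralizer of a torus in a reductive group is reductive. -/
theorem isReductiveOver_centralizer {S C : Over (Spec (CommRingCat.of k))} [GrpObj S] [GrpObj C]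
    (hG : Red.IsReductiveOver k G) (iS : S ⟶ G) [IsMonHom iS] [Mono iS] (hS : Red.IsTorus S) (c : C ⟶ G)
    (hc : Red.IsCentralizerOf iS c) : Red.IsReductiveOver k C := by
  obtain ⟨hCs, hCa, hCcl, hCconn', -⟩ := centralizer_torus iS hS c hc
  haveI := hCs; haveI := hCa; haveI := hCcl; haveI := hc.1; haveI := hc.2.1
  haveI := hCconn' inferInstance
  refine ⟨inferInstance, inferInstance, inferInstance, fun U _ i _ hic hUs hUc hUn hUt => ?_⟩
  haveI := hic; haveI := hUs; haveI := hUc
  haveI : IsAffine U.left := isAffine_of_isAffineHom i.left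
  haveI := isSolvable_of_noSubtorus hUt
  obtain ⟨T, _, iT, fT, hT, hfT⟩ := exists_maxTorus_containing iS hS
  haveI := hT.1; haveI := hT.2.1
  haveI := isAffine_of_isTorus hT.2.2.1
  haveI := smooth_of_isTorus hT.2.2.1
  haveI := locallyOfFiniteType_of_isTorus hT.2.2.1
  haveI : Smooth (T ⊗ T).hom := by
    show Smooth (pullback.fst T.hom T.hom ≫ T.hom)
    infer_instance
  haveI : IsReduced (T ⊗ T).left := SmoothRed.isReduced_of_smooth_scheme (T ⊗ T).hom
  have huniv : fst T T * snd T T = snd T T * fst T T := hom_ext_rp fun z => by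
    rw [MonObj.comp_mul, MonObj.comp_mul, rp_torus_comm hT.2.2.1]
  let j : U ⟶ G := i ≫ c
  haveI : IsMonHom j := by dsimp [j]; infer_instance
  haveI : IsClosedImmersion j.left := inferInstanceAs (IsClosedImmersion (i.left ≫ c.left))
  haveI : Mono j := GrpField.SchImg.mono_of_isClosedImmersion j
  obtain ⟨g, hg⟩ := UniRad.exists_le_of_le_borels (isUnipotentRadical_unit hG) iT hT j fun B _ iB t hB ht V _ v hv => by
    haveI := hB.1; haveI := hB.2.1; haveI := hB.2.2.1; haveI := hB.2.2.2.1
    haveI : IsAffine B.left := isAffine_of_isAffineHom iB.left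
    haveI : Mono iB := GrpField.SchImg.mono_of_isClosedImmersion iB
    haveI : Group.IsSolvable (RP B) := isSolvable_rp hB.2.2.2.2.1
    let D := pullback c iB
    let dC : D ⟶ C := pullback.fst c iB
    let dB : D ⟶ B := pullback.snd c iB
    haveI : Mono dC := inferInstanceAs (Mono (pullback.fst c iB))
    obtain ⟨hDg, hDm⟩ := MTBridge.exists_grpObj_of_div dC
      ⟨pullback.lift η[C] η[B] (by rw [IsMonHom.one_hom c, IsMonHom.one_hom iB]), pullback.lift_fst _ _ _⟩
      (fun X k₁ k₂ => ⟨pullback.lift ((k₁ ≫ dC)⁻¹ * (k₂ ≫ dC)) ((k₁ ≫ dB)⁻¹ * (k₂ ≫ dB)) (by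
        simp only [MonObj.mul_comp, GrpObj.inv_comp, Category.assoc, dC, dB, pullback.condition]),
        pullback.lift_fst _ _ _⟩)
    letI := hDg; haveI := hDm
    have hD := isBorelOver_centralizer iS hS iB hB (fT ≫ t) (by rw [Category.assoc, ht, hfT]) c hc dC dB
      (IsPullback.of_hasPullback c iB)
    obtain ⟨f, hf⟩ := exists_le_borel_of_normal dC hD i hUn
    let jB : U ⟶ B := f ≫ dB
    have hjB : jB ≫ iB = j := by
      simp only [jB, j, Category.assoc, dB, ← pullback.condition]
      rw [← Category.assoc f, hf]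
    haveI : IsMonHom jB := MTSplit.isMonHom_of_comp_mono jB iB j hjB
    haveI : IsClosedImmersion jB.left := by
      haveI : IsClosedImmersion (jB.left ≫ iB.left) := by
        rw [← Over.comp_left, hjB]; infer_instance
      exact IsClosedImmersion.of_comp jB.left iB.left
    obtain ⟨V₀, _, v₀, hv₀, hV₀a, hV₀c, hV₀t, hV₀u⟩ := UniRad.exists_radical_univ B
    haveI := hV₀a; haveI := hV₀c; haveI := hv₀.1; haveI := hv₀.2.1; haveI := hv₀.2.2.2.1
    obtain ⟨f₀, hf₀⟩ := hV₀u U jB inferInstance inferInstance inferInstance hUt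
    obtain ⟨f₁, hf₁⟩ := UniRad.exists_le_radical hv v₀ hv₀.2.2.1 hV₀t
    exact ⟨f₀ ≫ f₁, by rw [Category.assoc, reassoc_of% hf₁, reassoc_of% hf₀, hjB]⟩
  have hj1 : 𝟙 U = toUnit U ≫ η[U] := (cancel_mono j).1 (by
    rw [Category.id_comp, Category.assoc, IsMonHom.one_hom j, ← hg]
    exact congrArg (· ≫ η[G]) (toUnit_unique _ _))
  show IsIso U.hom
  refine ⟨η[U].left, ?_, Over.w η[U]⟩
  have h := congrArg CommaMorphism.left hj1
  simp only [Over.comp_left, Over.toUnit_left] at h
  exact h.symm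

end Groth.Agent.RedCent
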